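import Mathlib.RingTheory.PicardGroup
import Mathlib.RingTheory.Polynomial.GaussLemma
import Mathlib.RingTheory.Valuation.LocalSubring
import Mathlib.RingTheory.Localization.Away.Basic
import Mathlib.Algebra.Polynomial.Lifts
import Mathlib.LinearAlgebra.FreeModule.PID
import Groth.Agent.InvMod.Basic

/-!
# Invertible modules over `A[X]_h` for an integrally closed domain `A`
-/

universe u v

open Polynomial TensorProduct

namespace Groth.Agent.PicLine

variable {A K : Type u} [CommRing A] [IsDomain A] [Field K] [Algebra A K] [IsFractionRing A K]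

theorem exists_eq_of_mul_monic {h : A[X]} (hh : h.Monic) {P : K[X]} {a : A[X]}
    (e : P * h.map (algebraMap A K) = a.map (algebraMap A K)) :
    ∃ b : A[X], P = b.map (algebraMap A K) := by
  refine ⟨a /ₘ h, ?_⟩
  rw [Polynomial.map_divByMonic _ hh, ← e, mul_comm, Polynomial.mul_divByMonic_cancel_left _ (hh.map _)]

variable [IsIntegrallyClosed A]

theorem coeff_mul_mem {f g : K[X]} {a : A[X]} (e : f * g = a.map (algebraMap A K)) (i j : ℕ) :
    f.coeff i * g.coeff j ∈ (algebraMap A K).range := by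
  classical
  by_contra hx
  let S : Subring K := (algebraMap A K).range
  have hS : IsIntegrallyClosedIn S K := by
    refine isIntegrallyClosedIn_iff.mpr ⟨Subtype.val_injective, fun {z} hz => ?_⟩
    have hz' : IsIntegral A z := by
      obtain ⟨q, hq, hq'⟩ := hz
      have hsurj : Function.Surjective (algebraMap A K).rangeRestrict :=
        RingHom.rangeRestrict_surjective _
      obtain ⟨q', hq'eq, -, hq'm⟩ := Polynomial.lifts_and_degree_eq_and_monic
        ((Polynomial.mem_lifts q).mpr (Polynomial.map_surjective _ hsurj q)) hq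
      refine ⟨q', hq'm, ?_⟩
      rw [← hq', ← hq'eq, Polynomial.eval₂_map]
      rfl
    obtain ⟨b, hb⟩ := IsIntegrallyClosed.isIntegral_iff.mp hz'
    exact ⟨⟨z, b, hb⟩, rfl⟩
  obtain ⟨V, hSV, hxV⟩ := S.exists_le_valuationSubring_of_isIntegrallyClosedIn hx
  refine hxV ?_
  let v := V.valuation
  show f.coeff i * g.coeff j ∈ V
  rw [← ValuationSubring.valuation_le_one_iff]
  by_cases hf : f.coeff i = 0
  · simp [hf]
  by_cases hg : g.coeff j = 0
  · simp [hg]
  -- the first indices where the valuation is largest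
  have hmax : ∀ (p : K[X]), ∃ i₀, (∀ k, v (p.coeff k) ≤ v (p.coeff i₀)) ∧
      (∀ k, k < i₀ → v (p.coeff k) < v (p.coeff i₀)) := by
    intro p
    obtain ⟨i₁, -, h₁⟩ := Finset.exists_max_image (Finset.range (p.natDegree + 1))
      (fun k => v (p.coeff k)) ⟨0, Finset.mem_range.mpr (Nat.succ_pos _)⟩
    have h₁' : ∀ k, v (p.coeff k) ≤ v (p.coeff i₁) := fun k => by
      by_cases hk : k < p.natDegree + 1
      · exact h₁ k (Finset.mem_range.mpr hk)
      · rw [Polynomial.coeff_eq_zero_of_natDegree_lt (by omega), map_zero]; exact zero_le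
    have hex : ∃ k, v (p.coeff k) = v (p.coeff i₁) := ⟨i₁, rfl⟩
    exact ⟨Nat.find hex, fun k => (h₁' k).trans (Nat.find_spec hex).ge,
      fun k hk => lt_of_le_of_ne ((h₁' k).trans (Nat.find_spec hex).ge)
        (fun hc => Nat.find_min hex hk (hc.trans (Nat.find_spec hex)))⟩
  obtain ⟨i₀, hi₀, hi₀'⟩ := hmax f
  obtain ⟨j₀, hj₀, hj₀'⟩ := hmax g
  have hf0 : 0 < v (f.coeff i₀) := lt_of_lt_of_le
    (pos_of_ne_zero (by simpa using hf)) (hi₀ i)
  have hg0 : 0 < v (g.coeff j₀) := lt_of_lt_of_le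
    (pos_of_ne_zero (by simpa using hg)) (hj₀ j)
  have hsum : v ((f * g).coeff (i₀ + j₀)) = v (f.coeff i₀) * v (g.coeff j₀) := by
    rw [Polynomial.coeff_mul, ← map_mul]
    refine v.map_sum_eq_of_lt (j := (i₀, j₀)) (Finset.mem_antidiagonal.mpr rfl) fun k hk => ?_
    rw [Finset.mem_sdiff, Finset.mem_singleton, Finset.mem_antidiagonal] at hk
    rw [map_mul, map_mul]
    rcases lt_trichotomy k.1 i₀ with h | h | h
    · exact lt_of_le_of_lt (mul_le_mul_right (hj₀ _) _) (mul_lt_mul_of_pos_right (hi₀' _ h) hg0)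
    · exact absurd (Prod.ext h (by omega)) hk.2
    · exact lt_of_le_of_lt (mul_le_mul_left (hi₀ _) _)
        (mul_lt_mul_of_pos_left (hj₀' _ (by omega)) hf0)
  rw [map_mul]
  calc v (f.coeff i) * v (g.coeff j) ≤ v (f.coeff i₀) * v (g.coeff j₀) := mul_le_mul' (hi₀ i) (hj₀ j)
    _ = v ((f * g).coeff (i₀ + j₀)) := hsum.symm
    _ ≤ 1 := by
      rw [e, Polynomial.coeff_map, ValuationSubring.valuation_le_one_iff]
      exact hSV ⟨_, rfl⟩

variable {h : A[X]} (hh : h.Monic)
  {R : Type u} [CommRing R] [Algebra A[X] R] [IsLocalization.Away h R]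
  {RK : Type u} [CommRing RK] [Algebra K[X] RK] [IsLocalization.Away (h.map (algebraMap A K)) RK]
  (ι : R →+* RK)
  (hι : ∀ a : A[X], ι (algebraMap A[X] R a) = algebraMap K[X] RK (a.map (algebraMap A K)))

local notation "toK" => algebraMap K[X] RK
local notation "hK" => h.map (algebraMap A K)

include hh in
omit [IsIntegrallyClosed A] in
theorem toK_injective : Function.Injective (toK) :=
  IsLocalization.injective RK (M := Submonoid.powers hK)
    (powers_le_nonZeroDivisors_of_noZeroDivisors (hh.map _).ne_zero)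

omit [IsDomain A] [IsFractionRing A K] [IsIntegrallyClosed A] in
theorem exists_mul_pow (z : RK) : ∃ (N : ℕ) (P : K[X]), z * toK (hK ^ N) = toK P := by
  obtain ⟨⟨P, s, N, rfl⟩, e⟩ := IsLocalization.surj (Submonoid.powers hK) z
  exact ⟨N, P, e⟩

omit [IsDomain A] [IsFractionRing A K] [IsIntegrallyClosed A] in
theorem isUnit_toK_h (N : ℕ) : IsUnit (toK (hK ^ N)) := by
  rw [map_pow]
  exact (IsLocalization.Away.algebraMap_isUnit hK).pow N

omit [IsDomain A] [IsFractionRing A K] [IsIntegrallyClosed A] in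
include hι in
theorem exists_ι_eq {P : K[X]} {N : ℕ} {a : A[X]} {z : RK} (e : z * toK (hK ^ N) = toK P)
    (ha : P = a.map (algebraMap A K)) : ∃ r, z = ι r := by
  obtain ⟨w, hw⟩ := (IsLocalization.Away.algebraMap_isUnit (S := R) h).pow N
  refine ⟨algebraMap A[X] R a * ↑w⁻¹, (isUnit_toK_h (h := h) (K := K) (RK := RK) N).mul_left_injective ?_⟩
  show z * toK (hK ^ N) = ι _ * toK (hK ^ N)
  rw [e, ha, ← Polynomial.map_pow, ← hι (h ^ N), ← map_mul, mul_assoc, map_pow, ← hw, Units.inv_mul,
    mul_one, hι]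

include hh hι in
omit [IsIntegrallyClosed A] in
theorem exists_map_eq {P : K[X]} {r : R} (e : toK P = ι r) : ∃ a : A[X], P = a.map (algebraMap A K) := by
  obtain ⟨⟨a, s, N, rfl⟩, hr⟩ := IsLocalization.surj (Submonoid.powers h) r
  have e1 := congrArg ι hr
  rw [map_mul, ← e, hι, hι, ← map_mul] at e1
  have e2 := toK_injective (h := h) hh (RK := RK) e1
  rw [Polynomial.map_pow] at e2
  clear e e1 hr
  induction N generalizing a with
  | zero => exact ⟨a, by simpa using e2⟩
  | succ N ih =>
    rw [pow_succ, ← mul_assoc] at e2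
    obtain ⟨b, hb⟩ := exists_eq_of_mul_monic hh e2
    exact ih b hb

include hh hι in
/-- A unit of `K[X]_h` is a constant times a unit of `A[X]_h`. -/
theorem unit_decomp {u : RK} (hu : IsUnit u) : ∃ (c : K) (w : R), IsUnit w ∧ u = toK (C c) * ι w := by
  obtain ⟨u, rfl⟩ := hu
  obtain ⟨N, P, hP⟩ := exists_mul_pow (h := h) (K := K) (u : RK)
  obtain ⟨M, Q, hQ⟩ := exists_mul_pow (h := h) (K := K) ((u⁻¹ : RKˣ) : RK)
  have e1 : P * Q = hK ^ (N + M) := toK_injective (h := h) hh (RK := RK) (by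
    rw [map_mul, ← hP, ← hQ, mul_mul_mul_comm, Units.mul_inv, one_mul, pow_add, map_mul])
  have hdvd : P ∣ (h ^ (N + M)).map (algebraMap A K) := ⟨Q, by rw [e1, Polynomial.map_pow]⟩
  obtain ⟨P', hP'⟩ := IsIntegrallyClosed.eq_map_mul_C_of_dvd K (hh.pow _) hdvd
  obtain ⟨Q', hQ'⟩ := IsIntegrallyClosed.eq_map_mul_C_of_dvd K (hh.pow _)
    (show Q ∣ (h ^ (N + M)).map (algebraMap A K) from ⟨P, by rw [mul_comm, e1, Polynomial.map_pow]⟩)
  have hlc : P.leadingCoeff * Q.leadingCoeff = 1 := by
    rw [← Polynomial.leadingCoeff_mul, e1, ((hh.map _).pow _).leadingCoeff]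
  have e2 : P' * Q' = h ^ (N + M) := by
    refine Polynomial.map_injective _ (IsFractionRing.injective A K) ?_
    rw [Polynomial.map_mul, Polynomial.map_pow, ← e1]
    conv_rhs => rw [← hP', ← hQ']
    rw [mul_mul_mul_comm, ← map_mul, hlc, map_one, mul_one]
  have hunit : IsUnit (algebraMap A[X] R P') := by
    refine isUnit_of_mul_isUnit_left (y := algebraMap A[X] R Q') ?_
    rw [← map_mul, e2, map_pow]
    exact (IsLocalization.Away.algebraMap_isUnit h).pow _
  obtain ⟨w, hw⟩ := (IsLocalization.Away.algebraMap_isUnit (S := R) h).pow N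
  refine ⟨P.leadingCoeff, algebraMap A[X] R P' * ↑w⁻¹, hunit.mul (Units.isUnit _), ?_⟩
  refine (isUnit_toK_h (h := h) (K := K) (RK := RK) N).mul_left_injective ?_
  show _ * toK (hK ^ N) = _ * toK (hK ^ N)
  rw [hP, ← Polynomial.map_pow, ← hι (h ^ N), mul_assoc, ← map_mul, mul_assoc, map_pow, ← hw,
    Units.inv_mul, mul_one, hι, ← map_mul, mul_comm, hP']

include hh hι in
/-- The lattice of constants of an invertible module over `A[X]_h`. -/
theorem exists_lattice (h0 : IsUnit (h.eval 0)) (M : Type v) [AddCommGroup M] [Module R M]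
    [Module.Invertible R M] :
    ∃ (φ : M →+ RK) (CJ CJ' : Submodule A K), Function.Injective φ ∧
      (∀ (r : R) m, φ (r • m) = ι r * φ m) ∧
      (∀ m, ∃ (N : ℕ) (P : K[X]), φ m * toK (hK ^ N) = toK P ∧ ∀ i, P.coeff i ∈ CJ) ∧
      (∀ c ∈ CJ, ∃ m, φ m = toK (C c)) ∧
      (∀ c ∈ CJ, ∀ d ∈ CJ', c * d ∈ (algebraMap A K).range) ∧
      (1 : K) ∈ CJ * CJ' := by
  classical
  letI : Algebra R RK := ι.toAlgebra
  have : IsDomain RK :=
    IsLocalization.isDomain_of_le_nonZeroDivisors RK
      (powers_le_nonZeroDivisors_of_noZeroDivisors (hh.map (algebraMap A K)).ne_zero)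
  have : IsPrincipalIdealRing RK := ⟨fun J => by
    obtain ⟨x, hx⟩ := (IsPrincipalIdealRing.principal (J.comap toK)).principal
    refine ⟨toK x, ?_⟩
    rw [← IsLocalization.map_under (Submonoid.powers hK) RK J, Ideal.under, hx, Ideal.submodule_span_eq,
      Ideal.map_span, Set.image_singleton]⟩
  obtain ⟨e⟩ : Nonempty (RK ⊗[R] M ≃ₗ[RK] RK) := by
    have : Module.Free RK (RK ⊗[R] M) := Module.free_of_finite_type_torsion_free'
    exact Module.Invertible.free_iff_linearEquiv.mp this
  let φ : M →ₗ[R] RK := (e.toLinearMap.restrictScalars R).comp (TensorProduct.mk R RK M 1)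
  have hsmul : ∀ (r : R) (m : M), φ (r • m) = ι r * φ m := fun r m => by
    rw [map_smul, Algebra.smul_def]; rfl
  -- every functional is multiplication by an element of `RK`
  have h1span : (1 : RK) ∈ Submodule.span RK (Set.range φ) := by
    rw [show (1 : RK) = e (e.symm 1) from (e.apply_symm_apply 1).symm]
    induction e.symm 1 using TensorProduct.induction_on with
    | zero => rw [map_zero]; exact zero_mem _
    | add x y hx hy => rw [map_add]; exact add_mem hx hy
    | tmul z m =>
      rw [show z ⊗ₜ[R] m = z • ((1 : RK) ⊗ₜ[R] m) by rw [TensorProduct.smul_tmul', smul_eq_mul, mul_one],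
        map_smul]
      exact Submodule.smul_mem _ _ (Submodule.subset_span ⟨m, rfl⟩)
  have hdual : ∀ ψ : M →ₗ[R] R, ∃ g : RK, ∀ m, g * φ m = ι (ψ m) := by
    intro ψ
    have hall : ∀ x ∈ Submodule.span RK (Set.range φ), ∃ g : RK, ∀ m, g * φ m = x * ι (ψ m) := by
      intro x hx
      induction hx using Submodule.span_induction with
      | mem x hx =>
        obtain ⟨m₀, rfl⟩ := hx
        refine ⟨ι (ψ m₀), fun m => ?_⟩
        rw [← hsmul, InvMod.smul_swap ψ m₀ m, hsmul, mul_comm]
      | zero => exact ⟨0, fun m => by simp⟩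
      | add x y _ _ hx hy =>
        obtain ⟨a, ha⟩ := hx
        obtain ⟨b, hb⟩ := hy
        exact ⟨a + b, fun m => by rw [add_mul, ha, hb, add_mul]⟩
      | smul c x _ hx =>
        obtain ⟨a, ha⟩ := hx
        exact ⟨c * a, fun m => by rw [mul_assoc, ha, smul_eq_mul, mul_assoc]⟩
    obtain ⟨g, hg⟩ := hall 1 h1span
    exact ⟨g, fun m => by rw [hg, one_mul]⟩
  choose g hg using hdual
  -- the evaluations generate
  have h1J : (1 : R) ∈ Submodule.span R (Set.range fun q : (M →ₗ[R] R) × M => q.1 q.2) := by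
    rw [show (1 : R) = Module.Invertible.linearEquiv R M ((Module.Invertible.linearEquiv R M).symm 1) from
      (LinearEquiv.apply_symm_apply _ 1).symm]
    induction (Module.Invertible.linearEquiv R M).symm 1 using TensorProduct.induction_on with
    | zero => rw [map_zero]; exact zero_mem _
    | add x y hx hy => rw [map_add]; exact add_mem hx hy
    | tmul ψ m => exact Submodule.subset_span ⟨(ψ, m), by simp [Module.Invertible.linearEquiv]⟩
  have hinj : Function.Injective φ := by
    refine (injective_iff_map_eq_zero φ).mpr fun m hm => ?_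
    have hψ : ∀ ψ : M →ₗ[R] R, ψ m = 0 := fun ψ => by
      have e1 := hg ψ m
      rw [hm, mul_zero] at e1
      refine (injective_iff_map_eq_zero ι).mp ((injective_iff_map_eq_zero ι).mpr ?_) _ e1.symm
      intro x hx
      obtain ⟨⟨a, s, N, rfl⟩, hr⟩ := IsLocalization.surj (Submonoid.powers h) x
      have e2 := congrArg ι hr
      rw [map_mul, hx, zero_mul, hι] at e2
      have ha : a = 0 := Polynomial.map_injective _ (IsFractionRing.injective A K)
        (by rw [Polynomial.map_zero]; exact toK_injective (h := h) hh (RK := RK) (by rw [map_zero]; exact e2.symm))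
      rw [ha, map_zero] at hr
      exact ((IsLocalization.map_units R (⟨h ^ N, N, rfl⟩ : Submonoid.powers h)).mul_left_eq_zero).mp hr
    have : ∀ x ∈ Submodule.span R (Set.range fun q : (M →ₗ[R] R) × M => q.1 q.2), x • m = 0 := by
      intro x hx
      induction hx using Submodule.span_induction with
      | mem x hx =>
        obtain ⟨⟨ψ, m'⟩, rfl⟩ := hx
        rw [InvMod.smul_swap, hψ, zero_smul]
      | zero => rw [zero_smul]
      | add x y _ _ hx hy => rw [add_smul, hx, hy, add_zero]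
      | smul c x _ hx => rw [smul_eq_mul, mul_smul, hx, smul_zero]
    simpa using this 1 h1J
  let J' : Set RK := {z | ∀ m, ∃ r, z * φ m = ι r}
  let CJ : Submodule A K := Submodule.span A {c | ∃ (P : K[X]) (m : M) (i : ℕ), toK P = φ m ∧ c = P.coeff i}
  let CJ' : Submodule A K := Submodule.span A {c | ∃ (Q : K[X]) (i : ℕ), toK Q ∈ J' ∧ c = Q.coeff i}
  have hJ'mul : ∀ z ∈ J', ∀ a : A[X], z * toK (a.map (algebraMap A K)) ∈ J' := fun z hz a m => by
    obtain ⟨r, hr⟩ := hz m
    exact ⟨algebraMap A[X] R a * r, by rw [map_mul, hι, mul_right_comm, hr, mul_comm]⟩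
  have prodA : ∀ c ∈ CJ, ∀ d ∈ CJ', c * d ∈ (algebraMap A K).range := by
    intro c hc d hd
    induction hc using Submodule.span_induction with
    | zero => rw [zero_mul]; exact zero_mem _
    | add x y _ _ hx hy => rw [add_mul]; exact add_mem hx hy
    | smul a x _ hx => rw [Algebra.smul_def, mul_assoc]; exact mul_mem ⟨a, rfl⟩ hx
    | mem c hc =>
      obtain ⟨P, m, i, hP, rfl⟩ := hc
      induction hd using Submodule.span_induction with
      | zero => rw [mul_zero]; exact zero_mem _
      | add x y _ _ hx hy => rw [mul_add]; exact add_mem hx hy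
      | smul a x _ hx => rw [Algebra.smul_def, mul_left_comm]; exact mul_mem ⟨a, rfl⟩ hx
      | mem d hd =>
        obtain ⟨Q, j, hQ, rfl⟩ := hd
        obtain ⟨r, hr⟩ := hQ m
        rw [← hP, ← map_mul] at hr
        obtain ⟨a, ha⟩ := exists_map_eq hh ι hι hr
        rw [mul_comm]
        exact coeff_mul_mem ha j i
  have hmem' : ∀ z ∈ J', ∃ (N : ℕ) (Q : K[X]), z * toK (hK ^ N) = toK Q ∧ ∀ i, Q.coeff i ∈ CJ' := by
    intro z hz
    obtain ⟨N, Q, hQ⟩ := exists_mul_pow (h := h) (K := K) z
    refine ⟨N, Q, hQ, fun i => Submodule.subset_span ⟨Q, i, ?_, rfl⟩⟩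
    rw [← hQ, ← Polynomial.map_pow]
    exact hJ'mul z hz _
  have hmem : ∀ m, ∃ (N : ℕ) (P : K[X]), φ m * toK (hK ^ N) = toK P ∧ ∀ i, P.coeff i ∈ CJ := by
    intro m
    obtain ⟨N, P, hP⟩ := exists_mul_pow (h := h) (K := K) (φ m)
    refine ⟨N, P, hP, fun i => Submodule.subset_span ⟨P, algebraMap A[X] R (h ^ N) • m, i, ?_, rfl⟩⟩
    rw [hsmul, hι, Polynomial.map_pow, mul_comm, hP]
  have hgJ' : ∀ ψ, g ψ ∈ J' := fun ψ m => ⟨_, hg ψ m⟩
  -- constants of `CJ` are in the image
  have hconst : ∀ c ∈ CJ, ∃ m, φ m = toK (C c) := by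
    intro c hc
    have : ∀ x ∈ Submodule.span R (Set.range fun q : (M →ₗ[R] R) × M => q.1 q.2),
        ∃ m, φ m = ι x * toK (C c) := by
      intro x hx
      induction hx using Submodule.span_induction with
      | mem x hx =>
        obtain ⟨⟨ψ, m'⟩, rfl⟩ := hx
        obtain ⟨N, Q, hQ, hQc⟩ := hmem' _ (hgJ' ψ)
        have hlift : ∃ a : A[X], C c * Q = a.map (algebraMap A K) := by
          have : C c * Q ∈ Polynomial.lifts (algebraMap A K) := by
            rw [Polynomial.lifts_iff_coeff_lifts]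
            intro i
            rw [Polynomial.coeff_C_mul]
            exact prodA c hc _ (hQc i)
          obtain ⟨a, ha⟩ := (Polynomial.mem_lifts _).mp this
          exact ⟨a, ha.symm⟩
        obtain ⟨a, ha⟩ := hlift
        obtain ⟨r, hr⟩ := exists_ι_eq ι hι (z := toK (C c) * g ψ) (N := N)
          (by rw [mul_assoc, hQ, ← map_mul]) ha
        refine ⟨r • m', ?_⟩
        rw [hsmul, ← hr, ← hg ψ m']
        ring
      | zero => exact ⟨0, by simp⟩
      | add x y _ _ hx hy =>
        obtain ⟨a, ha⟩ := hx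
        obtain ⟨b, hb⟩ := hy
        exact ⟨a + b, by rw [map_add, ha, hb, map_add, add_mul]⟩
      | smul r x _ hx =>
        obtain ⟨a, ha⟩ := hx
        exact ⟨r • a, by rw [hsmul, ha, smul_eq_mul, map_mul, mul_assoc]⟩
    obtain ⟨m, hm⟩ := this 1 h1J
    exact ⟨m, by rw [hm, map_one, one_mul]⟩
  -- `1` is a sum of products
  have hone : (1 : K) ∈ CJ * CJ' := by
    have : ∀ x ∈ Submodule.span R (Set.range fun q : (M →ₗ[R] R) × M => q.1 q.2),
        ∃ (N : ℕ) (P : K[X]), ι x * toK (hK ^ N) = toK P ∧ P.coeff 0 ∈ CJ * CJ' := by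
      intro x hx
      induction hx using Submodule.span_induction with
      | mem x hx =>
        obtain ⟨⟨ψ, m'⟩, rfl⟩ := hx
        obtain ⟨N, Q, hQ, hQc⟩ := hmem' _ (hgJ' ψ)
        obtain ⟨N', P, hP, hPc⟩ := hmem m'
        refine ⟨N' + N, P * Q, ?_, ?_⟩
        · rw [← hg ψ m', pow_add, map_mul, map_mul, ← hP, ← hQ]; ring
        · rw [Polynomial.mul_coeff_zero]; exact Submodule.mul_mem_mul (hPc 0) (hQc 0)
      | zero => exact ⟨0, 0, by simp, by simp⟩
      | add x y _ _ hx hy =>
        obtain ⟨N, P, hP, hP0⟩ := hx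
        obtain ⟨N', P', hP', hP0'⟩ := hy
        refine ⟨N + N', P * hK ^ N' + P' * hK ^ N, ?_, ?_⟩
        · rw [map_add ι, map_add, map_mul, map_mul, ← hP, ← hP', pow_add, map_mul]; ring
        · rw [Polynomial.coeff_add, Polynomial.mul_coeff_zero, Polynomial.mul_coeff_zero,
            ← Polynomial.map_pow, ← Polynomial.map_pow, Polynomial.coeff_map, Polynomial.coeff_map,
            mul_comm (P.coeff 0), mul_comm (P'.coeff 0), ← Algebra.smul_def, ← Algebra.smul_def]
          exact add_mem (Submodule.smul_mem _ _ hP0) (Submodule.smul_mem _ _ hP0')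
      | smul r x _ hx =>
        obtain ⟨N, P, hP, hP0⟩ := hx
        obtain ⟨⟨a, s, N', rfl⟩, hr⟩ := IsLocalization.surj (Submonoid.powers h) r
        refine ⟨N + N', a.map (algebraMap A K) * P, ?_, ?_⟩
        · have e1 := congrArg ι hr
          rw [map_mul, hι, hι, Polynomial.map_pow] at e1
          rw [smul_eq_mul, map_mul ι, map_mul (toK), ← e1, ← hP, pow_add, map_mul]; ring
        · rw [Polynomial.mul_coeff_zero, Polynomial.coeff_map, ← Algebra.smul_def]
          exact Submodule.smul_mem _ _ hP0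
    obtain ⟨N, P, hP, hP0⟩ := this 1 h1J
    rw [map_one, one_mul] at hP
    rw [← toK_injective (h := h) hh (RK := RK) hP, ← Polynomial.map_pow, Polynomial.coeff_map,
      Polynomial.coeff_zero_eq_eval_zero, Polynomial.eval_pow] at hP0
    obtain ⟨w, hw⟩ := h0.pow N
    have h3 := (CJ * CJ').smul_mem (↑w⁻¹ : A) hP0
    rwa [← hw, Algebra.smul_def, ← map_mul, Units.inv_mul, map_one] at h3
  exact ⟨φ.toAddMonoidHom, CJ, CJ', hinj, hsmul, hmem, hconst, prodA, hone⟩

include hh hι in
/-- An invertible module over `A[X]_h` is principal locally on `A`. -/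
theorem exists_local_gen (h0 : IsUnit (h.eval 0)) (M : Type v) [AddCommGroup M] [Module R M]
    [Module.Invertible R M] (p : Ideal A) (hp : p ≠ ⊤) :
    ∃ (s : A) (n : M), s ∉ p ∧ ∀ m : M, ∃ r : R, algebraMap A[X] R (C s) • m = r • n := by
  obtain ⟨φ, CJ, CJ', hinj, hsmul, hmem, hconst, prodA, hone⟩ := exists_lattice hh ι hι h0 M
  obtain ⟨c, hc, d, hd, s, hs, hsp⟩ : ∃ c ∈ CJ, ∃ d ∈ CJ', ∃ s, algebraMap A K s = c * d ∧ s ∉ p := by
    by_contra! hall
    have : ∀ x ∈ CJ * CJ', ∃ a ∈ p, algebraMap A K a = x := by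
      intro x hx
      refine Submodule.mul_induction_on hx (fun c hc d hd => ?_) ?_
      · obtain ⟨a, ha⟩ := prodA c hc d hd
        exact ⟨a, hall c hc d hd a ha, ha⟩
      · rintro x y ⟨a, ha, rfl⟩ ⟨b, hb, rfl⟩
        exact ⟨a + b, add_mem ha hb, map_add _ _ _⟩
    obtain ⟨a, ha, ha'⟩ := this 1 hone
    exact hp ((Ideal.eq_top_iff_one p).mpr
      (IsFractionRing.injective A K (ha'.trans (map_one _).symm) ▸ ha))
  obtain ⟨n, hn⟩ := hconst c hc
  refine ⟨s, n, hsp, fun m => ?_⟩
  obtain ⟨N, P, hP, hPc⟩ := hmem m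
  obtain ⟨a, ha⟩ : ∃ a : A[X], C d * P = a.map (algebraMap A K) := by
    have : C d * P ∈ Polynomial.lifts (algebraMap A K) := by
      rw [Polynomial.lifts_iff_coeff_lifts]
      intro i
      rw [Polynomial.coeff_C_mul, mul_comm]
      exact prodA _ (hPc i) d hd
    obtain ⟨a, ha⟩ := (Polynomial.mem_lifts _).mp this
    exact ⟨a, ha.symm⟩
  obtain ⟨r, hr⟩ := exists_ι_eq ι hι (z := toK (C d) * φ m) (N := N)
    (by rw [mul_assoc, hP, ← map_mul]) ha
  refine ⟨r, hinj ?_⟩
  rw [hsmul, hsmul, ← hr, hn, hι, Polynomial.map_C, hs, map_mul C, map_mul (toK)]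
  ring

include hh hι in
/-- Evaluating an invertible module over `A[X]_h` at any point gives the same invertible lattice. -/
theorem exists_const (h0 : IsUnit (h.eval 0)) (M : Type v) [AddCommGroup M] [Module R M]
    [Module.Invertible R M] :
    ∃ CJ : Submodule A K, Module.Invertible A CJ ∧
      ∀ ev : R →+* A, (∀ a, ev (algebraMap A[X] R (C a)) = a) →
        ∃ f : M →+ CJ, (∀ r m, f (r • m) = ev r • f m) ∧ Function.Surjective f := by
  obtain ⟨φ, CJ, CJ', hinj, hsmul, hmem, hconst, prodA, hone⟩ := exists_lattice hh ι hι h0 M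
  have hunit : CJ * CJ' = 1 := by
    refine le_antisymm (Submodule.mul_le.mpr fun c hc d hd => ?_) (Submodule.one_le.mpr hone)
    obtain ⟨a, ha⟩ := prodA c hc d hd
    exact Submodule.mem_one.mpr ⟨a, ha⟩
  let I : (Submodule A K)ˣ := ⟨CJ, CJ', hunit, (mul_comm _ _).trans hunit⟩
  have : FaithfulSMul A K := (faithfulSMul_iff_algebraMap_injective A K).mpr (IsFractionRing.injective A K)
  refine ⟨CJ, (Module.Invertible.left (Submodule.tensorInvEquiv I) : Module.Invertible A (I : Submodule A K)), fun ev hev => ?_⟩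
  let x₀ : A := ev (algebraMap A[X] R X)
  have hevp : ∀ a : A[X], ev (algebraMap A[X] R a) = a.eval x₀ := by
    intro a
    refine RingHom.congr_fun (f := ev.comp (algebraMap A[X] R)) (g := Polynomial.evalRingHom x₀)
      (Polynomial.ringHom_ext (fun r => by simp [hev]) (by simp [x₀])) a
  have hux : IsUnit ((Polynomial.evalRingHom (algebraMap A K x₀)) hK) := by
    rw [Polynomial.coe_evalRingHom, Polynomial.eval_map_apply, ← hevp]
    exact (((IsLocalization.Away.algebraMap_isUnit h).map ev).map _)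
  let evK : RK →+* K := IsLocalization.Away.lift hK hux
  have hevK : ∀ P : K[X], evK (toK P) = P.eval (algebraMap A K x₀) := fun P =>
    IsLocalization.Away.lift_eq hK hux P
  have hevι : ∀ r, evK (ι r) = algebraMap A K (ev r) := by
    intro r
    refine RingHom.congr_fun (f := evK.comp ι) (g := (algebraMap A K).comp ev)
      (IsLocalization.ringHom_ext (Submonoid.powers h) (RingHom.ext fun a => ?_)) r
    simp only [RingHom.comp_apply]
    rw [hι, hevK, Polynomial.eval_map_apply, hevp]
  have hmem2 : ∀ m, evK (φ m) ∈ CJ := by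
    intro m
    obtain ⟨N, P, hP, hPc⟩ := hmem m
    obtain ⟨w, hw⟩ := ((IsLocalization.Away.algebraMap_isUnit h).map ev).pow N
    have e := congrArg evK hP
    rw [map_mul, ← Polynomial.map_pow, ← hι, hevι, map_pow, map_pow, hevK, ← hw] at e
    have hval : P.eval (algebraMap A K x₀) ∈ CJ := by
      rw [Polynomial.eval_eq_sum]
      refine sum_mem fun i _ => ?_
      show P.coeff i * algebraMap A K x₀ ^ i ∈ CJ
      rw [mul_comm, ← map_pow, ← Algebra.smul_def]
      exact CJ.smul_mem _ (hPc i)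
    have h3 := CJ.smul_mem (↑w⁻¹ : A) hval
    rwa [← e, Algebra.smul_def, mul_left_comm, ← map_mul, Units.inv_mul, map_one, mul_one] at h3
  refine ⟨{ toFun := fun m => ⟨evK (φ m), hmem2 m⟩,
            map_zero' := Subtype.ext (by simp),
            map_add' := fun a b => Subtype.ext (by simp) }, fun r m => Subtype.ext ?_, fun c => ?_⟩
  · show evK (φ (r • m)) = _
    rw [hsmul, map_mul, hevι, ← Algebra.smul_def]
    rfl
  · obtain ⟨m, hm⟩ := hconst c c.2
    exact ⟨m, Subtype.ext (by show evK (φ m) = _; rw [hm, hevK, Polynomial.eval_C])⟩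

end Groth.Agent.PicLine
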