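import Groth.Agent.PicLine.Alg
import Mathlib.RingTheory.MvPolynomial.Homogeneous

/-!
# Invertible modules over an integrally closed domain with a contraction to a field are free
-/

universe u

open Polynomial TensorProduct

namespace Groth.Agent.PicLine

theorem free_of_contraction_aux {k A R K RK : Type u} [Field k] [CommRing A] [IsDomain A] [IsIntegrallyClosed A]
    [Algebra k A] [Field K] [Algebra A K] [IsFractionRing A K]
    [CommRing R] [Algebra A[X] R] [IsLocalization.Away (1 : A[X]) R]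
    [CommRing RK] [Algebra K[X] RK] [IsLocalization.Away ((1 : A[X]).map (algebraMap A K)) RK]
    (γ : A →+* A[X]) (h1 : ∀ a, (γ a).eval 1 = a)
    (h0 : ∀ a, (γ a).eval 0 ∈ (algebraMap k A).range)
    (M : Type u) [AddCommGroup M] [Module A M] [Module.Invertible A M] : Module.Free A M := by
  let ι : R →+* RK := IsLocalization.Away.lift (1 : A[X])
    (g := (algebraMap K[X] RK).comp (Polynomial.mapRingHom (algebraMap A K))) (by simp)
  have hι : ∀ a : A[X], ι (algebraMap A[X] R a) = algebraMap K[X] RK (a.map (algebraMap A K)) :=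
    fun a => IsLocalization.Away.lift_eq _ _ a
  letI : Algebra A R := ((algebraMap A[X] R).comp γ).toAlgebra
  let ev : A → (R →+* A) := fun x => IsLocalization.Away.lift (1 : A[X])
    (g := Polynomial.evalRingHom x) (by simp)
  have hev : ∀ x (a : A[X]), ev x (algebraMap A[X] R a) = a.eval x := fun x a =>
    IsLocalization.Away.lift_eq _ _ a
  obtain ⟨CJ, hCJ, hf⟩ := exists_const (monic_one (R := A)) ι hι (by simp) (R ⊗[A] M)
  obtain ⟨f₁, hf₁, hf₁s⟩ := hf (ev 1) (fun a => by rw [hev, eval_C])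
  obtain ⟨f₀, hf₀, hf₀s⟩ := hf (ev 0) (fun a => by rw [hev, eval_C])
  have hg : ∀ (x : A) (f : R ⊗[A] M →+ CJ) (_ : ∀ r m, f (r • m) = ev x r • f m) (a : A) (m : M),
      f (1 ⊗ₜ (a • m)) = (γ a).eval x • f (1 ⊗ₜ m) := by
    intro x f hfx a m
    rw [TensorProduct.tmul_smul, ← algebraMap_smul R a, hfx]
    congr 1
    exact hev x (γ a)
  have hspan : ∀ (x : A) (f : R ⊗[A] M →+ CJ) (_ : ∀ r m, f (r • m) = ev x r • f m) (z : R ⊗[A] M),
      f z ∈ Submodule.span A (Set.range fun m : M => f (1 ⊗ₜ m)) := by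
    intro x f hfx z
    induction z using TensorProduct.induction_on with
    | zero => rw [map_zero]; exact zero_mem _
    | add a b ha hb => rw [map_add]; exact add_mem ha hb
    | tmul r m =>
      rw [show r ⊗ₜ[A] m = r • ((1 : R) ⊗ₜ[A] m) by rw [TensorProduct.smul_tmul', smul_eq_mul, mul_one], hfx]
      exact Submodule.smul_mem _ _ (Submodule.subset_span ⟨m, rfl⟩)
  -- evaluation at `1`
  let g₁ : M →ₗ[A] CJ :=
    { toFun := fun m => f₁ (1 ⊗ₜ m)
      map_add' := fun a b => by rw [TensorProduct.tmul_add, map_add]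
      map_smul' := fun a m => by rw [hg 1 f₁ hf₁, h1]; rfl }
  have hg₁ : Function.Surjective g₁ := by
    rw [← LinearMap.range_eq_top, eq_top_iff]
    rintro c -
    obtain ⟨z, rfl⟩ := hf₁s c
    exact Submodule.span_le.mpr (by rintro _ ⟨m, rfl⟩; exact ⟨m, rfl⟩) (hspan 1 f₁ hf₁ z)
  let e₁ := LinearEquiv.ofBijective g₁ (Module.Invertible.bijective_of_surjective hg₁)
  -- evaluation at `0`
  let I : Ideal A := RingHom.ker ((Polynomial.evalRingHom (0 : A)).comp γ)
  have hI : I ≠ ⊤ := RingHom.ker_ne_top _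
  obtain ⟨ψ, x, hx⟩ := InvMod.exists_apply_notMem (N := M) hI
  obtain ⟨u, hu⟩ := h0 (ψ x)
  have hu0 : u ≠ 0 := fun h => hx (by
    show (γ (ψ x)).eval 0 = 0
    rw [← hu, h, map_zero])
  have hu' : IsUnit ((γ (ψ x)).eval 0) := hu ▸ (isUnit_iff_ne_zero.mpr hu0).map _
  have hcyc : ∀ m, f₀ (1 ⊗ₜ m) ∈ Submodule.span A {f₀ ((1 : R) ⊗ₜ[A] x)} := by
    intro m
    obtain ⟨w, hw⟩ := hu'
    have e := congrArg (fun z => f₀ (1 ⊗ₜ z)) (InvMod.smul_swap ψ x m)
    simp only [hg 0 f₀ hf₀] at e
    rw [Submodule.mem_span_singleton]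
    refine ⟨↑w⁻¹ * (γ (ψ m)).eval 0, ?_⟩
    rw [mul_smul, ← e, ← hw, ← mul_smul, Units.inv_mul, one_smul]
  let g₀ : A →ₗ[A] CJ := LinearMap.toSpanSingleton A CJ (f₀ ((1 : R) ⊗ₜ[A] x))
  have hg₀ : Function.Surjective g₀ := by
    intro c
    obtain ⟨z, rfl⟩ := hf₀s c
    obtain ⟨a, ha⟩ := Submodule.mem_span_singleton.mp
      (Submodule.span_le.mpr (by rintro _ ⟨m, rfl⟩; exact hcyc m) (hspan 0 f₀ hf₀ z))
    exact ⟨a, ha⟩
  exact Module.Free.of_equiv
    ((LinearEquiv.ofBijective g₀ (Module.Invertible.bijective_of_surjective hg₀)).trans e₁.symm)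

theorem free_of_contraction {k A : Type u} [Field k] [CommRing A] [IsDomain A] [IsIntegrallyClosed A]
    [Algebra k A] (γ : A →+* A[X]) (h1 : ∀ a, (γ a).eval 1 = a)
    (h0 : ∀ a, (γ a).eval 0 ∈ (algebraMap k A).range)
    (M : Type u) [AddCommGroup M] [Module A M] [Module.Invertible A M] : Module.Free A M :=
  free_of_contraction_aux (R := Localization.Away (1 : A[X])) (K := FractionRing A)
    (RK := Localization.Away ((1 : A[X]).map (algebraMap A (FractionRing A)))) γ h1 h0 M

/-- The affine cone case: `A` generated by elements with homogeneous relations. -/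
theorem free_of_homogeneous {k A : Type u} [Field k] [CommRing A] [IsDomain A] [IsIntegrallyClosed A]
    [Algebra k A] {n : ℕ} (π : MvPolynomial (Fin n) k →ₐ[k] A) (hπ : Function.Surjective π)
    (s : Set (MvPolynomial (Fin n) k)) (hs : ∀ f ∈ s, ∃ d : ℕ, f.IsHomogeneous d)
    (hker : RingHom.ker π.toRingHom = Ideal.span s)
    (M : Type u) [AddCommGroup M] [Module A M] [Module.Invertible A M] : Module.Free A M := by
  let Φ : MvPolynomial (Fin n) k →ₐ[k] A[X] := MvPolynomial.aeval fun i => C (π (MvPolynomial.X i)) * X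
  have hhom : ∀ (f : MvPolynomial (Fin n) k) (d : ℕ), f.IsHomogeneous d → Φ f = C (π f) * X ^ d := by
    intro f d hf
    have hscale : ∀ (g : Fin n → A[X]) (c : A[X]),
        MvPolynomial.eval₂ (algebraMap k A[X]) (fun i => g i * c) f =
          MvPolynomial.eval₂ (algebraMap k A[X]) g f * c ^ d := by
      intro g c
      rw [MvPolynomial.eval₂_eq, MvPolynomial.eval₂_eq, Finset.sum_mul]
      refine Finset.sum_congr rfl fun e he => ?_
      have h := hf (MvPolynomial.mem_support_iff.1 he)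
      rw [Finsupp.weight_apply, Finsupp.sum] at h
      simp only [Pi.one_apply, smul_eq_mul, mul_one] at h
      simp only [mul_pow, Finset.prod_mul_distrib, Finset.prod_pow_eq_pow_sum, h]
      ring
    refine (hscale _ _).trans ?_
    congr 1
    exact RingHom.congr_fun (MvPolynomial.ringHom_ext
      (f := MvPolynomial.eval₂Hom (algebraMap k A[X]) (fun i => C (π (MvPolynomial.X i))))
      (g := (C : A →+* A[X]).comp π.toRingHom)
      (fun c => by simp [Polynomial.algebraMap_apply]) (fun i => by simp)) f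
  have hΦ : RingHom.ker π.toRingHom ≤ RingHom.ker Φ.toRingHom := by
    rw [hker, Ideal.span_le]
    intro f hf
    obtain ⟨d, hd⟩ := hs f hf
    show Φ f = 0
    have : π f = 0 := hker.ge (Ideal.subset_span hf)
    rw [hhom f d hd, this, map_zero, zero_mul]
  let γ : A →+* A[X] := RingHom.liftOfSurjective π.toRingHom hπ ⟨Φ.toRingHom, hΦ⟩
  have hγ : ∀ f, γ (π f) = Φ f := fun f =>
    RingHom.liftOfRightInverse_comp_apply _ _ _ ⟨Φ.toRingHom, hΦ⟩ f
  refine free_of_contraction (k := k) γ (fun a => ?_) (fun a => ?_) M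
  · obtain ⟨f, rfl⟩ := hπ a
    rw [hγ]
    induction f using MvPolynomial.induction_on with
    | C c => simp [Φ, Polynomial.algebraMap_apply]
    | add f g hf hg => rw [map_add, Polynomial.eval_add, hf, hg, map_add]
    | mul_X f i hf => rw [map_mul, Polynomial.eval_mul, hf, map_mul]; simp [Φ]
  · obtain ⟨f, rfl⟩ := hπ a
    rw [hγ]
    induction f using MvPolynomial.induction_on with
    | C c => exact ⟨c, by simp [Φ, Polynomial.algebraMap_apply]⟩
    | add f g hf hg => rw [map_add, Polynomial.eval_add]; exact add_mem hf hg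
    | mul_X f i hf => exact ⟨0, by simp [Φ]⟩

end Groth.Agent.PicLine
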